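import Cfsg.Agent.EqLemmas
import Cfsg.Agent.Lib.PGroup.MaximalClass
import Cfsg.Agent.Lib.PGroup.CyclicMaximal

/-!
Recognition of dihedral, semidihedral and quaternion 2-groups (helper78).

* `classify_of_index_commutator`: `|S : S'| = 4` and `|S| ≠ 4` give one of the three families
-/

set_option autoImplicit false
open Subgroup

namespace Cfsg.Agent.TwoGroupRecog

theorem classify_of_index_commutator {S : Type*} [Group S] [Finite S] (h2 : IsPGroup 2 S)
    (hab : (_root_.commutator S).index = 4) (h4 : Nat.card S ≠ 4) :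
    (∃ k : ℕ, Nonempty (S ≃* DihedralGroup (2 ^ (k + 2)))) ∨
      (∃ k : ℕ, Nat.card S = 2 ^ (k + 4) ∧ ∃ a b : S, orderOf a = 2 ^ (k + 3) ∧ orderOf b = 2 ∧
        b * a * b⁻¹ = a ^ (2 ^ (k + 2) - 1)) ∨
      (∃ k : ℕ, Nonempty (S ≃* QuaternionGroup (2 ^ (k + 1)))) := by
  have : Fact (Nat.Prime 2) := ⟨Nat.prime_two⟩
  obtain ⟨n, hn⟩ := IsPGroup.iff_card.mp h2
  have hdvd : 2 ^ 2 ∣ 2 ^ n := by
    rw [← hn]
    exact (show (2 : ℕ) ^ 2 = 4 from rfl) ▸ hab ▸ (_root_.commutator S).index_dvd_card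
  have hn2 : 2 ≤ n := (Nat.pow_dvd_pow_iff_le_right (by norm_num)).mp hdvd
  have hn3 : 3 ≤ n := by
    rcases hn2.lt_or_eq with h | h
    · exact h
    · exact absurd (by rw [hn, ← h]; norm_num) h4
  obtain ⟨a, b, ha, hb, -, hconj, hZ, -⟩ := PGroup.two_group_data hn3 hn hab
  obtain ⟨j, rfl⟩ : ∃ j, n = j + 3 := ⟨n - 3, by omega⟩
  simp only [show j + 3 - 1 = j + 2 by omega, show j + 3 - 2 = j + 1 by omega] at ha hZ
  have hidx : (zpowers a).index = 2 := by
    have := (zpowers a).card_mul_index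
    rw [Nat.card_zpowers, ha, hn, pow_succ 2 (j + 2)] at this
    exact Nat.eq_of_mul_eq_mul_left (pow_pos two_pos _) this
  have hZle : center S ≤ zpowers a := hZ ▸ zpowers_le.mpr (pow_mem (mem_zpowers a) _)
  have hbab : b * a * b⁻¹ ∈ zpowers a := by
    simpa using mul_mem (hZle hconj) (inv_mem (mem_zpowers a))
  have hgen : zpowers a ⊔ zpowers b = ⊤ := by
    have hlt : zpowers a < zpowers a ⊔ zpowers b :=
      lt_of_le_of_ne le_sup_left fun h => hb (h ▸ mem_sup_right (mem_zpowers b))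
    have h1 := relIndex_mul_index hlt.le
    rw [hidx] at h1
    rcases (Nat.dvd_prime Nat.prime_two).mp (Dvd.intro_left _ h1) with h | h
    · exact index_eq_one.mp h
    · exfalso
      rw [h] at h1
      have : (zpowers a).relIndex (zpowers a ⊔ zpowers b) = 1 := by omega
      exact hlt.ne (le_antisymm hlt.le (relIndex_eq_one.mp this))
  have hnc : ¬ Commute b a := by
    intro hcomm
    have hac : a ∈ center S := by
      have hle : (⊤ : Subgroup S) ≤ centralizer ({a} : Set S) := by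
        rw [← hgen]
        refine sup_le (zpowers_le.mpr ?_) (zpowers_le.mpr ?_) <;> rw [mem_centralizer_singleton_iff]
        exact hcomm.eq
      exact mem_center_iff.mpr fun g => mem_centralizer_singleton_iff.mp (hle (mem_top g))
    rw [hZ] at hac
    have h1 := orderOf_dvd_of_mem_zpowers hac
    have hpow : (a ^ 2 ^ (j + 1)) ^ 2 = 1 := by
      rw [← pow_mul, ← pow_succ, ← ha, pow_orderOf_eq_one]
    have h3 := Nat.le_of_dvd two_pos (h1.trans (orderOf_dvd_of_pow_eq_one hpow))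
    rw [ha] at h3
    have : 2 ^ 2 ≤ 2 ^ (j + 2) := Nat.pow_le_pow_right two_pos (by omega)
    omega
  have hb2 : b ^ 2 ∈ zpowers a := by
    refine sq_mem_of_index_two hidx b
  obtain ⟨-, i, hcases⟩ := PGroup.two_local ha hbab hb2 hnc
  set c := b * a ^ i with hc
  have hcA : c ∉ zpowers a := fun h => hb (by
    simpa [hc] using mul_mem h (inv_mem (zpow_mem (mem_zpowers a) i)))
  simp only [show j + 2 - 1 = j + 1 by omega] at hcases
  rcases hcases with ⟨hc2, hinv⟩ | ⟨hc2, hinv⟩ | ⟨hm, hc2, hmod⟩ | ⟨hm, hc2, hsd⟩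
  · left
    haveI : NeZero (2 ^ (j + 2)) := ⟨pow_ne_zero _ two_ne_zero⟩
    obtain ⟨e⟩ := PGroup.dihedralEquivOfGen ha hc2 hinv hcA (by rw [hn, ← pow_succ'])
    exact ⟨j, ⟨e.symm⟩⟩
  · right; right
    haveI : NeZero (2 ^ (j + 1)) := ⟨pow_ne_zero _ two_ne_zero⟩
    obtain ⟨e⟩ := PGroup.quaternionEquivOfGen (N := 2 ^ (j + 1)) (by rw [ha, ← pow_succ']) hc2 hinv hcA
      (by rw [hn, show (4 : ℕ) = 2 ^ 2 from rfl, ← pow_add, show 2 + (j + 1) = j + 3 by omega])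
    exact ⟨j, ⟨e.symm⟩⟩
  · exfalso
    have hbc : c * a * c⁻¹ = b * a * b⁻¹ := by rw [hc]; group
    rw [hbc] at hmod
    rw [hmod, hZ] at hconj
    obtain ⟨t, ht⟩ := mem_zpowers_iff.mp hconj
    obtain ⟨k, rfl⟩ : ∃ k, j = k + 1 := ⟨j - 1, by omega⟩
    have e : a ^ ((2 ^ (k + 1 + 1) : ℤ) * t) = a ^ ((2 : ℤ) + 2 ^ (k + 1 + 1)) := by
      have e2 : a ^ ((2 : ℤ) + 2 ^ (k + 1 + 1)) = a ^ ((1 : ℤ) + 2 ^ (k + 1 + 1)) * a := by
        rw [← zpow_add_one]; congr 1; ring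
      rw [zpow_mul, e2]
      exact_mod_cast ht
    rw [zpow_eq_zpow_iff_modEq, ha, Int.modEq_iff_dvd] at e
    push_cast at e
    have h4 : (4 : ℤ) ∣ 2 + 2 ^ (k + 1 + 1) - 2 ^ (k + 1 + 1) * t :=
      dvd_trans ⟨2 ^ (k + 1), by ring⟩ e
    have h5 : (4 : ℤ) ∣ 2 ^ (k + 1 + 1) * (1 - t) := Dvd.dvd.mul_right ⟨2 ^ k, by ring⟩ _
    have h6 : (4 : ℤ) ∣ 2 := by
      have := dvd_sub h4 h5
      ring_nf at this ⊢
      exact this
    norm_num at h6
  · right; left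
    obtain ⟨k, rfl⟩ : ∃ k, j = k + 1 := ⟨j - 1, by omega⟩
    refine ⟨k, by rw [hn], a, c, ha, orderOf_eq_prime hc2 fun h => hcA (h ▸ one_mem _), ?_⟩
    rw [hsd, ← zpow_natCast, Nat.cast_sub (Nat.one_le_two_pow)]

end Cfsg.Agent.TwoGroupRecog
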