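import Cfsg.Agent.Lib.TwoGroupRecog.Basic
import Cfsg.Agent.Lib.Cores.Basic

/-!
2-groups of sectional rank at most two with a nonabelian subgroup of order eight (helper78).

* `nonabelian_eight`, `centralizer_le`, `isSectional_subgroup`
* `index_commutator_of_nonabelian_eight`: such a group has `|S : S'| = 4`
-/

set_option autoImplicit false
open Subgroup
open scoped Pointwise commutatorElement

namespace Cfsg.Agent.TwoGroupRecog

universe u

theorem nonabelian_eight {S : Type*} [Group S] [Finite S] (H : Subgroup S) (h8 : Nat.card H = 8)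
    (hH : ¬ IsMulCommutative H) :
    Nat.card ↥(H ⊓ centralizer (H : Set S)) = 2 ∧ ∀ h ∈ H, h ^ 2 ∈ centralizer (H : Set S) := by
  have : Fact (Nat.Prime 2) := ⟨Nat.prime_two⟩
  have hP : IsPGroup 2 H := IsPGroup.of_card (n := 3) (by rw [h8]; norm_num)
  have hnc : ¬ IsCyclic (H ⧸ center H) := fun hc =>
    hH ⟨⟨commutative_of_cyclic_center_quotient (QuotientGroup.mk' (center H))
      (by rw [QuotientGroup.ker_mk'])⟩⟩
  have hcard := (center H).card_mul_index
  rw [h8] at hcard
  haveI : Nontrivial H := Finite.one_lt_card_iff_nontrivial.mp (by omega)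
  have hpos : 2 ≤ Nat.card (center H) := by
    haveI := hP.center_nontrivial
    exact Finite.one_lt_card
  have hidx : (center H).index = 4 := by
    have hd : (center H).index ∣ 2 ^ 3 := Dvd.intro_left _ hcard
    obtain ⟨i, hi, hi'⟩ := (Nat.dvd_prime_pow Nat.prime_two).mp hd
    rw [hi'] at hcard ⊢
    interval_cases i
    · exfalso
      haveI : Subsingleton (H ⧸ center H) :=
        (Nat.card_eq_one_iff_unique.mp (by rw [← index_eq_card, hi']; rfl)).1
      exact hnc inferInstance
    · exfalso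
      exact hnc (isCyclic_of_prime_card (p := 2) (by rw [← index_eq_card, hi']; rfl))
    · norm_num
    · omega
  rw [hidx] at hcard
  constructor
  · have e : (center H).map H.subtype = H ⊓ centralizer (H : Set S) := by
      ext x
      constructor
      · rintro ⟨z, hz, rfl⟩
        exact ⟨z.2, fun y hy => congrArg Subtype.val (mem_center_iff.mp hz ⟨y, hy⟩)⟩
      · rintro ⟨hx, hxc⟩
        exact ⟨⟨x, hx⟩, mem_center_iff.mpr fun y => Subtype.ext (hxc y y.2), rfl⟩
    rw [← e, card_subtype]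
    omega
  · intro h hh
    have hd : orderOf (QuotientGroup.mk (⟨h, hh⟩ : H) : H ⧸ center H) ∣ 2 ^ 2 := by
      have := orderOf_dvd_natCard (QuotientGroup.mk (⟨h, hh⟩ : H) : H ⧸ center H)
      rwa [← index_eq_card, hidx] at this
    obtain ⟨i, hi, hi'⟩ := (Nat.dvd_prime_pow Nat.prime_two).mp hd
    have hsq : (⟨h, hh⟩ : H) ^ 2 ∈ center H := by
      by_cases hi2 : i = 2
      · exfalso
        subst hi2
        exact hnc (isCyclic_of_orderOf_eq_card _ (by rw [hi', ← index_eq_card, hidx]; norm_num))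
      · rw [← QuotientGroup.eq_one_iff, QuotientGroup.mk_pow, ← orderOf_dvd_iff_pow_eq_one, hi']
        exact (pow_dvd_pow 2 (show i ≤ 1 by omega)).trans (by norm_num)
    exact fun y hy => congrArg Subtype.val (mem_center_iff.mp hsq ⟨y, hy⟩)

/-- The criterion behind `index_commutator_of_nonabelian_eight`: a maximal-class subgroup `M` of index
two and an element `y` outside it with `y ^ 2 ∉ S'` cannot normalise the cyclic part of `M`. -/
theorem absurd_normalising {S : Type*} [Group S] [Finite S] {D : Subgroup S} (hS : _root_.commutator S ≤ D)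
    {a b y : S} {m : ℕ} (hm : 2 ≤ m) (ha : orderOf a = 2 ^ m)
    (hb : ∃ s : ℤ, (4 : ℤ) ∣ s - 3 ∧ b * a * b⁻¹ = a ^ s)
    (hy : y * a * y⁻¹ ∈ zpowers a) (hw : y ^ 2 ∉ D) (ha2 : a ^ 2 ∈ D)
    (hcl : y ^ 2 ∈ zpowers a ∨ y ^ 2 * a * (y ^ 2)⁻¹ = b * a * b⁻¹)
    (hyM : y ∉ zpowers a)
    (hby : b * y * b⁻¹ ∈ zpowers y ∨ ¬ y ^ 2 ∈ zpowers a) : False := by
  obtain ⟨s, hs, hbs⟩ := hb
  have h4 : (4 : ℤ) ∣ 2 ^ m := by
    exact_mod_cast (pow_dvd_pow 2 hm : 2 ^ 2 ∣ 2 ^ m)
  rcases hcl with hin | hout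
  · obtain ⟨j, hj⟩ := mem_zpowers_iff.mp hin
    obtain ⟨q, rfl⟩ : ∃ q, j = 2 * q + 1 := by
      rcases Int.even_or_odd j with ⟨q, hq⟩ | h
      · exfalso
        apply hw
        rw [← hj, show j = 2 * q by omega, zpow_mul, zpow_two, ← sq]
        exact zpow_mem ha2 q
      · exact h
    have hco : IsCoprime (2 * q + 1) ((2 : ℤ) ^ m) :=
      IsCoprime.pow_right ⟨1, -q, by ring⟩
    obtain ⟨u, v, huv⟩ := hco
    have hapow : a ^ ((2 : ℤ) ^ m) = 1 := by
      rw [show ((2 : ℤ) ^ m) = ((2 ^ m : ℕ) : ℤ) by push_cast; rfl, zpow_natCast, ← ha, pow_orderOf_eq_one]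
    have hay : a = y ^ (2 * u) := by
      calc a = a ^ (u * (2 * q + 1) + v * 2 ^ m) := by rw [huv, zpow_one]
        _ = (a ^ (2 * q + 1)) ^ u := by
            rw [zpow_add, mul_comm v, zpow_mul a ((2 : ℤ) ^ m), hapow, one_zpow, mul_one, mul_comm u, zpow_mul]
        _ = y ^ (2 * u) := by rw [hj, zpow_mul, zpow_two, sq]
    obtain ⟨t, ht⟩ := mem_zpowers_iff.mp (hby.resolve_right (not_not.mpr hin))
    have hat : a ^ t = a ^ s := by
      rw [← hbs]
      conv_rhs => rw [hay, ← conj_zpow, ← ht, ← zpow_mul]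
      rw [hay, ← zpow_mul, mul_comm]
    rw [zpow_eq_zpow_iff_modEq, ha, Int.modEq_iff_dvd] at hat
    push_cast at hat
    have ht4 : (4 : ℤ) ∣ t - 3 := by
      have := dvd_sub hs (h4.trans hat)
      ring_nf at this ⊢
      exact this
    obtain ⟨e, he⟩ := ht4
    have hyord : y ^ ((2 : ℤ) ^ (m + 1)) = 1 := by
      rw [pow_succ', zpow_mul, zpow_two, ← sq, ← hj, ← zpow_mul, mul_comm, zpow_mul, hapow, one_zpow]
    obtain ⟨k, l, hkl⟩ : IsCoprime (2 * e + 1) ((2 : ℤ) ^ m) := IsCoprime.pow_right ⟨1, -e, by ring⟩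
    apply hw
    have hy2 : y ^ 2 = (b * y * b⁻¹ * y⁻¹) ^ k := by
      rw [← ht, ← zpow_sub_one, ← zpow_natCast, ← zpow_mul, show t - 1 = 2 * (2 * e + 1) by omega]
      calc y ^ ((2 : ℕ) : ℤ) = y ^ ((2 * (2 * e + 1)) * k + (2 ^ (m + 1)) * l) := by
            congr 1; push_cast; linear_combination (-2) * hkl
        _ = _ := by rw [zpow_add, zpow_mul y ((2 : ℤ) ^ (m + 1)), hyord, one_zpow, mul_one]
    rw [hy2]
    refine zpow_mem (hS ?_) k
    rw [_root_.commutator_def]
    exact commutator_mem_commutator (mem_top b) (mem_top y)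
  · obtain ⟨r, hr⟩ := mem_zpowers_iff.mp hy
    have h1 : a ^ (r * r) = a ^ s := by
      rw [← hbs, ← hout, zpow_mul, hr, conj_zpow, hr, sq]
      group
    rw [zpow_eq_zpow_iff_modEq, ha, Int.modEq_iff_dvd] at h1
    push_cast at h1
    have h2 : (4 : ℤ) ∣ r * r - 3 := by
      have := dvd_sub hs (h4.trans h1)
      ring_nf at this ⊢
      exact this
    have h3 : ∀ x : ZMod 4, x * x ≠ 3 := by decide
    refine h3 r ?_
    have h5 := (ZMod.intCast_zmod_eq_zero_iff_dvd (r * r - 3) 4).mpr (by exact_mod_cast h2)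
    push_cast at h5
    exact sub_eq_zero.mp h5

/-- In a group of sectional `2`-rank at most two, a nonabelian subgroup of order eight contains its
centralizer. -/
theorem centralizer_le {S : Type*} [Group S] [Finite S] (h2 : IsPGroup 2 S)
    (hr : Cfsg.SectionalPRankLE 2 2 S) {H : Subgroup S} (h8 : Nat.card H = 8)
    (hsq : ∀ h ∈ H, h ^ 2 ∈ centralizer (H : Set S)) (hz : Nat.card ↥(H ⊓ centralizer (H : Set S)) = 2) :
    centralizer (H : Set S) ≤ H := by
  by_contra hle
  obtain ⟨x₀, hx₀, hx₀H⟩ := SetLike.not_le_iff_exists.mp hle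
  obtain ⟨k, hk⟩ := h2 x₀
  have hex : ∃ x ∈ centralizer (H : Set S), x ∉ H ∧ x ^ 2 ∈ H := by
    classical
    have he : ∃ i, x₀ ^ 2 ^ i ∈ H := ⟨k, hk ▸ one_mem H⟩
    obtain ⟨i, hi⟩ : ∃ i, Nat.find he = i + 1 :=
      ⟨Nat.find he - 1, by
        have : Nat.find he ≠ 0 := fun h => hx₀H (by simpa [h] using Nat.find_spec he)
        omega⟩
    refine ⟨x₀ ^ 2 ^ i, pow_mem hx₀ _, Nat.find_min he (by omega), ?_⟩
    rw [← pow_mul, ← pow_succ, ← hi]
    exact Nat.find_spec he
  obtain ⟨x, hxC, hxH, hx2⟩ := hex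
  set K := H ⊔ zpowers x with hK
  set Z := H ⊓ centralizer (H : Set S) with hZ
  have hKc : K ≤ centralizer (Z : Set S) := by
    refine sup_le (fun h hh z hz' => ((mem_centralizer_iff.mp hz'.2) h hh).symm) (zpowers_le.mpr ?_)
    exact fun z hz' => (mem_centralizer_iff.mp hxC z hz'.1)
  haveI : (Z.subgroupOf K).Normal := ⟨fun z hz' g => by
    have hc := mem_centralizer_iff.mp (hKc g.2) z hz'
    have e : g * z * g⁻¹ = z := Subtype.ext (by simp [← hc])
    rwa [e]⟩
  have hmem : ∀ g ∈ K, ∃ h ∈ H, ∃ i : ℤ, g = h * x ^ i := by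
    intro g hg
    have hnorm : zpowers x ≤ normalizer (H : Set S) :=
      zpowers_le.mpr (centralizer_le_normalizer _ hxC)
    have hgS : g ∈ (H : Set S) * (zpowers x : Set S) := by
      rw [← coe_mul_of_right_le_normalizer_left H (zpowers x) hnorm]
      exact hg
    obtain ⟨h, hh, u, ⟨i, hi⟩, rfl⟩ := Set.mem_mul.mp hgS
    exact ⟨h, hh, i, hi ▸ rfl⟩
  have hexp : ∀ q : ↥K ⧸ Z.subgroupOf K, q * q = 1 := by
    intro q
    obtain ⟨⟨g, hg⟩, rfl⟩ := QuotientGroup.mk_surjective q
    obtain ⟨h, hh, i, rfl⟩ := hmem g hg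
    rw [← QuotientGroup.mk_mul, QuotientGroup.eq_one_iff, mem_subgroupOf]
    show h * x ^ i * (h * x ^ i) ∈ Z
    have hc : Commute h (x ^ i) := (show Commute h x from mem_centralizer_iff.mp hxC h hh).zpow_right i
    rw [← sq, hc.mul_pow]
    refine mul_mem ⟨pow_mem hh 2, hsq h hh⟩ ?_
    rw [← zpow_natCast, ← zpow_mul, mul_comm, zpow_mul, zpow_natCast]
    exact zpow_mem (show x ^ 2 ∈ Z from ⟨hx2, pow_mem hxC 2⟩) i
  have hcomm : IsMulCommutative (⊤ : Subgroup (↥K ⧸ Z.subgroupOf K)) := ⟨⟨fun p q => Subtype.ext (by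
    have hi : ∀ r : ↥K ⧸ Z.subgroupOf K, r⁻¹ = r := fun r => inv_eq_of_mul_eq_one_right (hexp r)
    show p.1 * q.1 = q.1 * p.1
    calc p.1 * q.1 = (p.1 * q.1)⁻¹ := (hi _).symm
      _ = _ := by rw [mul_inv_rev, hi, hi])⟩⟩
  have hbound := hr K (Z.subgroupOf K) ⊤ hcomm fun q _ => by rw [sq]; exact hexp q
  rw [card_top] at hbound
  have h1 := (Z.subgroupOf K).card_eq_card_quotient_mul_card_subgroup
  rw [Nat.card_congr (subgroupOfEquivOfLe (inf_le_left.trans le_sup_left : Z ≤ K)).toEquiv, hz] at h1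
  have hlt : H < K := lt_of_le_of_ne le_sup_left fun h => hxH (h ▸ mem_sup_right (mem_zpowers x))
  have hdvd := card_dvd_of_le hlt.le
  have hne : Nat.card H ≠ Nat.card K := fun h => hlt.ne (eq_of_le_of_card_ge hlt.le h.ge)
  rw [h8] at hdvd hne
  obtain ⟨c, hc⟩ := hdvd
  have : 2 ≤ c := by
    rcases c with _ | _ | c
    · exfalso; have := Nat.card_pos (α := K); omega
    · omega
    · omega
  norm_num at hbound
  omega

theorem isSectional_subgroup {S : Type*} [Group S] [Finite S] {p k : ℕ} (hr : Cfsg.SectionalPRankLE p k S)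
    (M : Subgroup S) : Cfsg.SectionalPRankLE p k M := by
  intro L N hN A hA hAp
  haveI := hN
  let e : L ≃* L.map M.subtype := L.equivMapOfInjective M.subtype M.subtype_injective
  haveI : (N.map e.toMonoidHom).Normal := hN.map e.toMonoidHom e.surjective
  let q : L ⧸ N ≃* (L.map M.subtype) ⧸ N.map e.toMonoidHom := QuotientGroup.congr N _ e rfl
  have h := hr (L.map M.subtype) (N.map e.toMonoidHom) (A.map q.toMonoidHom)
    ⟨⟨fun u v => by
      obtain ⟨⟨_, a, ha, rfl⟩, ⟨_, b, hb, rfl⟩⟩ := u, v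
      apply Subtype.ext
      show q a * q b = q b * q a
      rw [← map_mul, ← map_mul]
      exact congrArg q (congrArg Subtype.val (hA.1.1 ⟨a, ha⟩ ⟨b, hb⟩))⟩⟩
    (by rintro _ ⟨a, ha, rfl⟩; rw [← map_pow, hAp a ha, map_one])
  exact (Nat.card_congr (A.equivMapOfInjective q.toMonoidHom q.injective).toEquiv).trans_le h

/-- The main step: sectional `2`-rank at most two and a nonabelian subgroup of order eight force
`|S : S'| = 4`. -/
theorem index_commutator_of_nonabelian_eight :
    ∀ (n : ℕ) (S : Type u) [Group S] [Finite S], Nat.card S = n → IsPGroup 2 S →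
      Cfsg.SectionalPRankLE 2 2 S → ∀ H : Subgroup S, Nat.card H = 8 → ¬ IsMulCommutative H →
      (_root_.commutator S).index = 4 := by
  intro n
  induction n using Nat.strong_induction_on with
  | _ n ih =>
  intro S _ _ hn h2 hr H h8 hH
  have : Fact (Nat.Prime 2) := ⟨Nat.prime_two⟩
  by_contra hne
  -- the commutator quotient
  obtain ⟨e₀, he₀⟩ := IsPGroup.index h2 (_root_.commutator S)
  have he₀' : 3 ≤ e₀ ∨ e₀ ≤ 1 := by
    by_contra hc
    exact hne (by rw [he₀, show e₀ = 2 by omega]; norm_num)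
  have hnab : ∀ T : Subgroup S, H ≤ T → ¬ IsMulCommutative T := fun T hT hc =>
    hH ⟨⟨fun x y => Subtype.ext (congrArg (fun z : T => (z : S))
      (hc.1.1 ⟨x, hT x.2⟩ ⟨y, hT y.2⟩))⟩⟩
  have he3 : 3 ≤ e₀ := by
    rcases he₀' with h | h
    · exact h
    · exfalso
      have hcyc : IsCyclic (S ⧸ _root_.commutator S) := by
        rcases Nat.le_one_iff_eq_zero_or_eq_one.mp h with rfl | rfl
        · haveI : Subsingleton (S ⧸ _root_.commutator S) :=
            (Nat.card_eq_one_iff_unique.mp (by rw [← index_eq_card, he₀]; rfl)).1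
          infer_instance
        · exact isCyclic_of_prime_card (p := 2) (by rw [← index_eq_card, he₀]; rfl)
      haveI := PGroup.isCyclic_of_abelianization h2 hcyc
      exact hH ⟨⟨fun x y => Subtype.ext ((IsCyclic.isMulCommutative (α := S)).1.1 x y)⟩⟩
  -- nonabelian subgroups of order eight
  obtain ⟨hzc, hsq⟩ := nonabelian_eight H h8 hH
  have hCH := centralizer_le h2 hr h8 hsq hzc
  by_cases htop : H = ⊤
  · subst htop
    rw [card_top] at h8
    have hd : (_root_.commutator S).index ∣ 8 := h8 ▸ index_dvd_card _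
    have hcard := (_root_.commutator S).card_mul_index
    rw [h8, he₀] at hcard
    have : 2 ^ 3 ≤ 2 ^ e₀ := Nat.pow_le_pow_right two_pos he3
    have hbot : _root_.commutator S = ⊥ := eq_bot_of_card_eq _ (by
      have := Nat.card_pos (α := _root_.commutator S)
      by_contra h1
      have : 2 * 2 ^ e₀ ≤ Nat.card (_root_.commutator S) * 2 ^ e₀ := Nat.mul_le_mul_right _ (by omega)
      omega)
    refine hH ⟨⟨fun x y => Subtype.ext ?_⟩⟩
    have := commutator_mem_commutator (mem_top (x : S)) (mem_top (y : S))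
    rw [← _root_.commutator_def, hbot, mem_bot, commutatorElement_eq_one_iff_mul_comm] at this
    exact this
  obtain ⟨M, hM, hHM⟩ := (IsCoatomic.eq_top_or_exists_le_coatom H).resolve_left htop
  have hMi := PGroup.isCoatom_index h2 hM
  haveI hMn := PGroup.isCoatom_normal h2 hM
  have hMc := ih _ (hn ▸ lt_of_le_of_ne (Subgroup.card_le_card_group M)
    fun h => hM.1 (eq_top_of_card_eq M h)) M rfl (h2.to_subgroup M) (isSectional_subgroup hr M)
    (H.subgroupOf M) (by rw [Nat.card_congr (subgroupOfEquivOfLe hHM).toEquiv, h8])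
    (fun hc => hH ⟨⟨fun x y => by
      have := congrArg (fun z : H.subgroupOf M => ((z : M) : S))
        (hc.1.1 ⟨⟨x, hHM x.2⟩, x.2⟩ ⟨⟨y, hHM y.2⟩, y.2⟩)
      exact Subtype.ext this⟩⟩)
  obtain ⟨mM, hmM⟩ := IsPGroup.iff_card.mp (h2.to_subgroup M)
  have hm3 : 3 ≤ mM := by
    have := card_dvd_of_le hHM
    rw [h8, hmM, show (8 : ℕ) = 2 ^ 3 from rfl] at this
    exact (Nat.pow_dvd_pow_iff_le_right (by norm_num)).mp this
  obtain ⟨a, b, ha, hb, hb2, hconj, hZ, -⟩ := PGroup.two_group_data hm3 hmM hMc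
  obtain ⟨j, rfl⟩ : ∃ j, mM = j + 3 := ⟨mM - 3, by omega⟩
  simp only [show j + 3 - 1 = j + 2 by omega, show j + 3 - 2 = j + 1 by omega] at ha hZ
  -- the derived subgroup of `M`
  set D := (_root_.commutator M).map M.subtype with hD
  haveI : D.Normal := Cfsg.Agent.Cores.map_subtype_normal_of_characteristic M _
  have hDidx : D.index = 8 := by
    rw [hD, index_map_subtype, hMc, hMi]
  have hDS : D ≤ _root_.commutator S := by
    rw [hD, _root_.commutator_def, map_commutator, _root_.commutator_def]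
    exact commutator_mono le_top le_top
  have hSD : _root_.commutator S = D := by
    refine (eq_of_le_of_card_ge hDS ?_).symm
    have h1 := D.card_mul_index
    have h3 := (_root_.commutator S).card_mul_index
    rw [hDidx] at h1
    rw [he₀] at h3
    have : 2 ^ 3 ≤ 2 ^ e₀ := Nat.pow_le_pow_right two_pos he3
    by_contra hlt
    have : Nat.card D * 2 ^ e₀ < Nat.card (_root_.commutator S) * 2 ^ e₀ :=
      Nat.mul_lt_mul_of_pos_right (not_le.mp hlt) (pow_pos two_pos _)
    have : Nat.card D * 8 ≤ Nat.card D * 2 ^ e₀ := Nat.mul_le_mul_left _ (by omega)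
    omega
  obtain ⟨y, hy⟩ : ∃ y : S, y ^ 2 ∉ D := by
    by_contra hc
    push Not at hc
    have h := hr ⊤ (D.subgroupOf ⊤) ⊤ ⟨⟨fun u v => Subtype.ext (by
      obtain ⟨u', hu⟩ := QuotientGroup.mk_surjective u.1
      obtain ⟨v', hv⟩ := QuotientGroup.mk_surjective v.1
      show u.1 * v.1 = v.1 * u.1
      rw [← hu, ← hv, ← QuotientGroup.mk_mul, ← QuotientGroup.mk_mul, QuotientGroup.eq, mem_subgroupOf,
        ← hSD, _root_.commutator_def]
      have e : (((u' * v')⁻¹ * (v' * u') : (⊤ : Subgroup S)) : S) = ⁅(v' : S)⁻¹, (u' : S)⁻¹⁆ := by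
        push_cast
        rw [commutatorElement_def]
        group
      rw [e]
      exact commutator_mem_commutator (mem_top _) (mem_top _))⟩⟩
      (fun q _ => by
        obtain ⟨u, rfl⟩ := QuotientGroup.mk_surjective q
        rw [← QuotientGroup.mk_pow, QuotientGroup.eq_one_iff, mem_subgroupOf]
        exact hc (u : S))
    rw [card_top, ← index_eq_card, ← relIndex, relIndex_top_right, hDidx] at h
    norm_num at h
  -- squares of `M` lie in `D`
  have hMsq : ∀ u ∈ M, u ^ 2 ∈ D := by
    intro u hu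
    refine ⟨⟨u, hu⟩ ^ 2, ?_, rfl⟩
    show _ ∈ _root_.commutator M
    rw [← QuotientGroup.eq_one_iff, QuotientGroup.mk_pow]
    have hQ4 : Nat.card (M ⧸ _root_.commutator M) = 4 := by rw [← index_eq_card, hMc]
    set q : M ⧸ _root_.commutator M := QuotientGroup.mk ⟨u, hu⟩
    have hd : orderOf q ∣ 2 ^ 2 := by
      have := orderOf_dvd_natCard q
      rwa [hQ4] at this
    obtain ⟨i, hi, hi'⟩ := (Nat.dvd_prime_pow Nat.prime_two).mp hd
    by_cases hi2 : i = 2
    · exfalso
      subst hi2
      haveI := isCyclic_of_orderOf_eq_card q (by rw [hi', hQ4]; norm_num)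
      haveI := PGroup.isCyclic_of_abelianization (h2.to_subgroup M) this
      exact hnab M hHM (IsCyclic.isMulCommutative)
    · rw [← orderOf_dvd_iff_pow_eq_one, hi']
      exact (pow_dvd_pow 2 (show i ≤ 1 by omega)).trans (by norm_num)
  have hyM : y ∉ M := fun h => hy (hMsq y h)
  have hy2M : y ^ 2 ∈ M := sq_mem_of_index_two hMi y
  -- the action of elements outside the cyclic subgroup
  set z := a ^ 2 ^ (j + 1) with hz
  have haN : ∀ c : M, c ∉ zpowers a → c ^ 2 ∈ center M ∧ c * a * c⁻¹ = b * a * b⁻¹ := by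
    intro c hc
    have hidx : (zpowers a).index = 2 := by
      have := (zpowers a).card_mul_index
      rw [Nat.card_zpowers, ha, hmM, pow_succ 2 (j + 2)] at this
      exact Nat.eq_of_mul_eq_mul_left (pow_pos two_pos _) this
    have hcb : b⁻¹ * c ∈ zpowers a := (mul_mem_iff_of_index_two hidx).mpr (by simp [hb, hc])
    obtain ⟨i, hi⟩ := mem_zpowers_iff.mp hcb
    have hceq : c = b * a ^ i := by rw [hi]; group
    obtain ⟨w, hw, hwe⟩ : ∃ w ∈ center M, b * a * b⁻¹ = w * a⁻¹ := ⟨_, hconj, by group⟩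
    refine ⟨?_, by rw [hceq]; group⟩
    have hcw : Commute w a := (mem_center_iff.mp hw a).symm
    have e1 : b * a ^ i * b⁻¹ = w ^ i * (a ^ i)⁻¹ := by
      rw [← conj_zpow, hwe, (hcw.inv_right).mul_zpow, inv_zpow]
    have e2 : c ^ 2 = w ^ i * (a ^ i)⁻¹ * b ^ 2 * a ^ i := by
      rw [hceq, ← e1, sq, sq]; group
    have hbc : b ^ 2 * a ^ i = a ^ i * b ^ 2 := (mem_center_iff.mp hb2 _).symm
    rw [e2, mul_assoc (w ^ i * (a ^ i)⁻¹), hbc]
    have e3 : w ^ i * (a ^ i)⁻¹ * (a ^ i * b ^ 2) = w ^ i * b ^ 2 := by group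
    rw [e3]
    exact mul_mem (zpow_mem hw i) hb2
  have hzsq : ∀ c ∈ center M, c ^ 2 = 1 := by
    intro c hc
    rw [hZ] at hc
    obtain ⟨i, rfl⟩ := mem_zpowers_iff.mp hc
    rw [hz, ← zpow_natCast, ← zpow_mul, mul_comm, zpow_mul, zpow_natCast, ← pow_mul, ← pow_succ, ← ha,
      pow_orderOf_eq_one, one_zpow]
  have hout4 : ∀ c : M, c ∉ zpowers a → orderOf c ∣ 4 := by
    intro c hc
    apply orderOf_dvd_of_pow_eq_one
    rw [show 4 = 2 * 2 from rfl, pow_mul]
    exact hzsq _ (haN c hc).1
  have hnc : ∀ c : M, c ∉ zpowers a → ¬ Commute c a := by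
    intro c hc hcomm
    have hidx : (zpowers a).index = 2 := by
      have := (zpowers a).card_mul_index
      rw [Nat.card_zpowers, ha, hmM, pow_succ 2 (j + 2)] at this
      exact Nat.eq_of_mul_eq_mul_left (pow_pos two_pos _) this
    refine hnab M hHM ⟨⟨fun u v => ?_⟩⟩
    have hgen : ∀ u : M, Commute u a := by
      intro u
      by_cases hu : u ∈ zpowers a
      · obtain ⟨i, rfl⟩ := mem_zpowers_iff.mp hu
        exact (Commute.refl a).zpow_left i
      · have : c⁻¹ * u ∈ zpowers a := (mul_mem_iff_of_index_two hidx).mpr (by simp [hc, hu])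
        obtain ⟨i, hi⟩ := mem_zpowers_iff.mp this
        have hue : u = c * a ^ i := by rw [hi]; group
        rw [hue]
        exact hcomm.mul_left ((Commute.refl a).zpow_left i)
    have hac : a ∈ center M := mem_center_iff.mpr fun g => (hgen g).eq
    rw [hZ] at hac
    have h1 := Nat.le_of_dvd two_pos ((orderOf_dvd_of_mem_zpowers hac).trans
      (orderOf_dvd_of_pow_eq_one (hzsq _ (hZ ▸ mem_zpowers z))))
    rw [ha] at h1
    have : 2 ^ 2 ≤ 2 ^ (j + 2) := Nat.pow_le_pow_right two_pos (by omega)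
    omega
  -- conjugation data for a generator
  have hsb : ∃ s : ℤ, (4 : ℤ) ∣ s - 3 ∧ b * a * b⁻¹ = a ^ s := by
    rw [hZ] at hconj
    obtain ⟨t, ht⟩ := mem_zpowers_iff.mp hconj
    have e : b * a * b⁻¹ = a ^ ((2 : ℤ) ^ (j + 1) * t - 1) := by
      have hzz : a ^ ((2 : ℤ) ^ (j + 1)) = z := by rw [hz, ← zpow_natCast]; push_cast; rfl
      rw [zpow_sub_one, zpow_mul, hzz, ht, mul_inv_cancel_right]
    rcases j with _ | j
    · rcases Int.even_or_odd t with ⟨v, hv⟩ | ⟨v, hv⟩
      · exact ⟨_, ⟨v - 1, by rw [hv]; ring⟩, e⟩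
      · exfalso
        refine hnc b hb ?_
        have e' : b * a * b⁻¹ = a := by
          rw [e, show (2 : ℤ) ^ (0 + 1) * t - 1 = 4 * v + 1 by rw [hv]; ring, zpow_add, zpow_mul,
            show a ^ (4 : ℤ) = 1 from ?_, one_zpow, one_mul, zpow_one]
          rw [show (4 : ℤ) = ((2 ^ (0 + 2) : ℕ) : ℤ) by norm_num, zpow_natCast, ← ha, pow_orderOf_eq_one]
        exact mul_inv_eq_iff_eq_mul.mp e'
    · exact ⟨_, ⟨(2 : ℤ) ^ j * t - 1, by ring⟩, e⟩
  -- choose the cyclic subgroup normalised by `y`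
  let Y : MulAut M := MulAut.conjNormal y
  have hYw : Y ⟨y ^ 2, hy2M⟩ = ⟨y ^ 2, hy2M⟩ := Subtype.ext (by simp [Y, MulAut.conjNormal_apply, sq, mul_assoc])
  set w : M := ⟨y ^ 2, hy2M⟩ with hwdef
  have hwD : w ∉ _root_.commutator M := fun h => hy ⟨w, h, rfl⟩
  obtain ⟨a', b', ha', hb', hs', hY', ha2', hcl'⟩ : ∃ a' b' : M, orderOf a' = 2 ^ (j + 2) ∧
      b' ∉ zpowers a' ∧ (∃ s : ℤ, (4 : ℤ) ∣ s - 3 ∧ b' * a' * b'⁻¹ = a' ^ s) ∧ Y a' ∈ zpowers a' ∧
      a' ^ 2 ∈ _root_.commutator M ∧
      (w ∈ zpowers a' ∨ w * a' * w⁻¹ = b' * a' * b'⁻¹) := by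
    have ha2 : a ^ 2 ∈ _root_.commutator M := by
      have := hMsq a a.2
      obtain ⟨u, hu, he⟩ := this
      exact (Subtype.ext he : u = a ^ 2) ▸ hu
    by_cases hYa : Y a ∈ zpowers a
    · refine ⟨a, b, ha, hb, hsb, hYa, ha2, ?_⟩
      by_cases hwa : w ∈ zpowers a
      · exact Or.inl hwa
      · exact Or.inr (haN w hwa).2
    · -- then `|M| = 8`
      have h4' : 2 ^ (j + 2) ∣ 2 ^ 2 := by
        have := hout4 _ hYa
        rwa [MulEquiv.orderOf_eq, ha] at this
      have hj : j = 0 := by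
        have := (Nat.pow_dvd_pow_iff_le_right (by norm_num)).mp h4'
        omega
      subst hj
      have hw4 : orderOf w = 4 := by
        have hd : orderOf w ∣ 2 ^ 2 := by
          by_cases hwa : w ∈ zpowers a
          · have := orderOf_dvd_of_mem_zpowers hwa
            rwa [ha] at this
          · exact hout4 w hwa
        obtain ⟨i, hi, hi'⟩ := (Nat.dvd_prime_pow Nat.prime_two).mp hd
        by_cases hi2 : i = 2
        · subst hi2; exact hi'
        · exfalso
          have hw2 : w ^ 2 = 1 := by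
            rw [← orderOf_dvd_iff_pow_eq_one, hi']
            exact (pow_dvd_pow 2 (show i ≤ 1 by omega)).trans (by norm_num)
          by_cases hwa : w ∈ zpowers a
          · obtain ⟨k, hk⟩ := mem_zpowers_iff.mp hwa
            rcases Int.even_or_odd k with ⟨v, hv⟩ | ⟨v, hv⟩
            · apply hwD
              rw [← hk, hv, ← two_mul, zpow_mul, zpow_two, ← sq]
              exact zpow_mem ha2 v
            · rw [← hk, ← zpow_natCast, ← zpow_mul, ← orderOf_dvd_iff_zpow_eq_one, ha, hv] at hw2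
              push_cast at hw2
              omega
          · -- `w` is an outside involution fixed by `Y`; use the image of `a`
            set a₁ := Y a with ha1
            have ha14 : orderOf a₁ = 4 := by rw [ha1, MulEquiv.orderOf_eq, ha]; norm_num
            have hidx : (zpowers a).index = 2 := by
              have := (zpowers a).card_mul_index
              rw [Nat.card_zpowers, ha, hmM] at this
              norm_num at this
              omega
            have hprod : a₁⁻¹ * w ∈ zpowers a := (mul_mem_iff_of_index_two hidx).mpr (by simp [hYa, hwa])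
            obtain ⟨k, hk⟩ := mem_zpowers_iff.mp hprod
            have hwk : w = a₁ * a ^ k := by rw [hk]; group
            rcases Int.even_or_odd k with ⟨v, hv⟩ | ⟨v, hv⟩
            · -- `w` would lie in the image of the cyclic subgroup
              have hz1 : a ^ 2 ∈ zpowers a₁ := by
                have h12 : a₁ ^ 2 ∈ center M := (haN a₁ hYa).1
                rw [hZ] at h12
                obtain ⟨i', hi'⟩ := mem_zpowers_iff.mp h12
                rcases Int.even_or_odd i' with ⟨v', hv'⟩ | ⟨v', hv'⟩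
                · exfalso
                  have : a₁ ^ 2 = 1 := by
                    rw [← hi', hv', ← two_mul, zpow_mul, zpow_two, ← sq, hzsq z (hZ ▸ mem_zpowers z), one_zpow]
                  have := Nat.le_of_dvd two_pos (orderOf_dvd_of_pow_eq_one this)
                  omega
                · refine ⟨2, ?_⟩
                  show a₁ ^ (2 : ℤ) = a ^ 2
                  rw [zpow_two, ← sq, ← hi', hv', zpow_add, zpow_mul, zpow_one, zpow_two, ← sq,
                    hzsq z (hZ ▸ mem_zpowers z), one_zpow, one_mul, hz]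
                  norm_num
              have hw1 : w ∈ zpowers a₁ := by
                rw [hwk, hv, ← two_mul, zpow_mul, zpow_two, ← sq]
                exact mul_mem (mem_zpowers _) (zpow_mem hz1 v)
              obtain ⟨i', hi'⟩ := mem_zpowers_iff.mp hw1
              refine hwa ⟨i', ?_⟩
              apply Y.injective
              show Y (a ^ i') = Y w
              rw [map_zpow, hYw, ← ha1, hi']
            · have hconj1 := (haN a₁ hYa).2
              obtain ⟨s, hs, hbs⟩ := hsb
              have hai : a₁ * a * a₁⁻¹ = a⁻¹ := by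
                rw [hconj1, hbs, ← zpow_neg_one, zpow_eq_zpow_iff_modEq, ha, Int.modEq_iff_dvd]
                push_cast
                have := hs.neg_right
                obtain ⟨c, hc⟩ := this
                exact ⟨c - 1, by omega⟩
              have hk' : a₁ * a ^ k * a₁⁻¹ = (a ^ k)⁻¹ := by rw [← conj_zpow, hai, inv_zpow]
              have : w ^ 2 = a₁ ^ 2 := by
                rw [hwk, sq, sq]
                calc a₁ * a ^ k * (a₁ * a ^ k) = (a₁ * a ^ k * a₁⁻¹) * (a₁ * a₁) * a ^ k := by group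
                  _ = (a ^ k)⁻¹ * a₁ ^ 2 * a ^ k := by rw [hk', sq]
                  _ = (a ^ k)⁻¹ * (a₁ ^ 2 * a ^ k) := by group
                  _ = (a ^ k)⁻¹ * (a ^ k * a₁ ^ 2) := by rw [mem_center_iff.mp (haN a₁ hYa).1 (a ^ k)]
                  _ = a₁ * a₁ := by rw [sq]; group
              rw [hw2] at this
              have := Nat.le_of_dvd two_pos (orderOf_dvd_of_pow_eq_one this.symm)
              omega
      have hwa : w ∉ zpowers a := by
        intro hwa
        refine hYa ?_
        have hle : zpowers w = zpowers a := eq_of_le_of_card_ge (zpowers_le.mpr hwa)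
          (by rw [Nat.card_zpowers, Nat.card_zpowers, ha, hw4]; norm_num)
        obtain ⟨i, hi⟩ := mem_zpowers_iff.mp (hle ▸ mem_zpowers a : a ∈ zpowers w)
        rw [show Y a = w ^ i by rw [← hi, map_zpow, hYw]]
        exact zpow_mem hwa i
      have haw : a ∉ zpowers w := by
        intro h
        exact hwa ((eq_of_le_of_card_ge (zpowers_le.mpr h)
          (by rw [Nat.card_zpowers, Nat.card_zpowers, ha, hw4]; norm_num)) ▸ mem_zpowers w)
      have hinv : a * w * a⁻¹ = w⁻¹ := by
        -- `w a w⁻¹ = a⁻¹` and `w ^ 2 = a ^ 2`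
        obtain ⟨s, hs, hbs⟩ := hsb
        have hwai : w * a * w⁻¹ = a⁻¹ := by
          rw [(haN w hwa).2, hbs, ← zpow_neg_one, zpow_eq_zpow_iff_modEq, ha, Int.modEq_iff_dvd]
          push_cast
          have := hs.neg_right
          obtain ⟨c, hc⟩ := this
          exact ⟨c - 1, by omega⟩
        have hwz : w ^ 2 = a ^ 2 := by
          have h12 : w ^ 2 ∈ center M := (haN w hwa).1
          rw [hZ] at h12
          obtain ⟨i', hi'⟩ := mem_zpowers_iff.mp h12
          rcases Int.even_or_odd i' with ⟨v', hv'⟩ | ⟨v', hv'⟩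
          · exfalso
            have : w ^ 2 = 1 := by
              rw [← hi', hv', ← two_mul, zpow_mul, zpow_two, ← sq, hzsq z (hZ ▸ mem_zpowers z), one_zpow]
            have := Nat.le_of_dvd two_pos (orderOf_dvd_of_pow_eq_one this)
            omega
          · rw [← hi', hv', zpow_add, zpow_mul, zpow_one, zpow_two, ← sq,
              hzsq z (hZ ▸ mem_zpowers z), one_zpow, one_mul, hz]
            norm_num
        have hwz2 : w⁻¹ = a ^ 2 * w := by
          rw [← hwz, eq_comm, ← mul_eq_one_iff_eq_inv, ← pow_succ, ← pow_succ, show 2 + 1 + 1 = orderOf w by rw [hw4],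
            pow_orderOf_eq_one]
        calc a * w * a⁻¹ = a * (w * a⁻¹ * w⁻¹) * w := by group
          _ = a * (w * a * w⁻¹)⁻¹ * w := by group
          _ = a ^ 2 * w := by rw [hwai, inv_inv, sq]
          _ = w⁻¹ := hwz2.symm
      refine ⟨w, a, by rw [hw4]; norm_num, haw, ⟨-1, by norm_num, by rw [hinv, zpow_neg_one]⟩,
        hYw.symm ▸ mem_zpowers w, ?_, Or.inl (mem_zpowers w)⟩
      have := hMsq w w.2
      obtain ⟨u, hu, he⟩ := this
      exact (Subtype.ext he : u = w ^ 2) ▸ hu
  have hmemz : ∀ u : M, u ∈ zpowers a' ↔ (u : S) ∈ zpowers (a' : S) := fun u => by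
    simp only [mem_zpowers_iff]
    exact ⟨fun ⟨i, hi⟩ => ⟨i, by rw [← hi]; rfl⟩, fun ⟨i, hi⟩ => ⟨i, Subtype.ext (by rw [← hi]; rfl)⟩⟩
  have hyz : y ∉ zpowers (a' : S) := fun h => hyM (zpowers_le.mpr a'.2 h)
  refine absurd_normalising (D := D) (hSD.le) (a := (a' : S)) (b := (b' : S)) (y := y) (m := j + 2) (by omega)
    (by rw [Subgroup.orderOf_coe, ha']) ?_ ((hmemz _).mp hY') hy ?_ ?_ hyz ?_
  · obtain ⟨s, hs, he⟩ := hs'
    exact ⟨s, hs, congrArg Subtype.val he⟩
  · exact ⟨a' ^ 2, ha2', rfl⟩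
  · rcases hcl' with h | h
    · exact Or.inl ((hmemz w).mp h)
    · exact Or.inr (congrArg Subtype.val h)
  · by_cases hin : y ^ 2 ∈ zpowers (a' : S)
    · left
      have hyord : (2 : ℕ) ^ (j + 3) ≤ Nat.card (zpowers y) := by
        have hle : zpowers (a' : S) ≤ zpowers y := by
          have : zpowers w = zpowers a' := by
            obtain ⟨i, hi⟩ := mem_zpowers_iff.mp ((hmemz w).mpr hin)
            refine le_antisymm (zpowers_le.mpr ((hmemz w).mpr hin)) (zpowers_le.mpr ?_)
            rcases Int.even_or_odd i with ⟨v, hv⟩ | ⟨v, hv⟩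
            · exfalso
              apply hwD
              rw [← hi, hv, ← two_mul, zpow_mul, zpow_two, ← sq]
              exact zpow_mem ha2' v
            · obtain ⟨k, l, hkl⟩ : IsCoprime i ((2 : ℤ) ^ (j + 2)) :=
                IsCoprime.pow_right ⟨1, -v, by omega⟩
              refine ⟨k, ?_⟩
              show w ^ k = a'
              rw [← hi, ← zpow_mul]
              calc a' ^ (i * k) = a' ^ (i * k) * (a' ^ ((2 : ℤ) ^ (j + 2))) ^ l := by
                    rw [show ((2 : ℤ) ^ (j + 2)) = ((2 ^ (j + 2) : ℕ) : ℤ) by push_cast; rfl, zpow_natCast,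
                      ← ha', pow_orderOf_eq_one, one_zpow, mul_one]
                _ = a' ^ (k * i + l * 2 ^ (j + 2)) := by rw [← zpow_mul, ← zpow_add]; congr 1; ring
                _ = a' := by rw [hkl, zpow_one]
          obtain ⟨i, hi⟩ := mem_zpowers_iff.mp (this ▸ mem_zpowers a' : a' ∈ zpowers w)
          refine zpowers_le.mpr ?_
          rw [← hi]
          show ((w ^ i : M) : S) ∈ zpowers y
          rw [coe_zpow]
          exact zpow_mem (pow_mem (mem_zpowers y) 2) i
        have hlt : zpowers (a' : S) < zpowers y :=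
          lt_of_le_of_ne hle fun h => hyz (h ▸ mem_zpowers y)
        obtain ⟨c, hc⟩ := card_dvd_of_le hle
        have hne' : Nat.card (zpowers (a' : S)) ≠ Nat.card (zpowers y) := fun h =>
          hlt.ne (eq_of_le_of_card_ge hle h.ge)
        rw [Nat.card_zpowers (a' : S), Subgroup.orderOf_coe, ha'] at hc hne'
        rcases c with _ | _ | c
        · exfalso; have := Nat.card_pos (α := zpowers y); omega
        · omega
        · rw [hc, show 2 ^ (j + 3) = 2 ^ (j + 2) * 2 from pow_succ _ _]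
          exact Nat.mul_le_mul_left _ (by omega)
      have hidx : (zpowers y).index ≤ 2 := by
        have h1 := (zpowers y).card_mul_index
        have h3 := M.card_mul_index
        rw [hMi, hmM] at h3
        rw [← h3] at h1
        by_contra hgt
        have : 2 ^ (j + 3) * 3 ≤ Nat.card (zpowers y) * (zpowers y).index :=
          Nat.mul_le_mul hyord (by omega)
        have := pow_pos two_pos (a := (2 : ℕ)) (n := j + 3)
        omega
      have hn' : (zpowers y).Normal := by
        rcases (show (zpowers y).index = 1 ∨ (zpowers y).index = 2 by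
          have := index_ne_zero_of_finite (H := zpowers y)
          omega) with h | h
        · rw [index_eq_one.mp h]; infer_instance
        · exact normal_of_index_eq_two h
      exact hn'.conj_mem y (mem_zpowers y) b'
    · exact Or.inr hin

end Cfsg.Agent.TwoGroupRecog
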